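import Cfsg.Agent.BenderSE.Dependents.FourConnected

/-!
The proper two-generated core box (`notes/two_gen_core_v3.md`): interface between the part on the centralizer of
a central involution `t` with `C(t) ≰ M` (Lemma P, case B) and the part on the whole group.
-/

set_option autoImplicit false

namespace Cfsg.Lib.TwoCore

open Subgroup

universe u

variable {G : Type u} [Group G] [Finite G]

/-- `M` contains `S`, four-groups of `M` fuse in `M` only, the cores of the involution centralizers of `M` lie
in `M`. -/
structure Setup (M : Subgroup G) (S : Sylow 2 G) : Prop where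
  le : (S : Subgroup G) ≤ M
  ne_top : M ≠ ⊤
  fuse : ∀ V : Subgroup G, IsKleinFour V → V ≤ M → ∀ g : G, V.map (MulAut.conj g).toMonoidHom ≤ M → g ∈ M
  rank : ¬ Cfsg.PRankLE 2 2 G
  core : ∀ a ∈ M, orderOf a = 2 → Cfsg.centralizerPPrimeCore 2 a ≤ M

/-- `z` is an involution of the centre of `S`. -/
def Central (S : Sylow 2 G) (z : G) : Prop :=
  z ∈ (S : Subgroup G) ∧ orderOf z = 2 ∧ ∀ s ∈ (S : Subgroup G), Commute s z

/-- Case B: a bad involution which is the only involution of `Z(S)` is central. -/
def CaseBSpec : Prop :=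
  ∀ (G : Type u) [Group G] [Finite G] (M : Subgroup G) (S : Sylow 2 G), Setup M S → Cfsg.oddCore G = ⊥ →
    ∀ t : G, Central S t → ¬ centralizer ({t} : Set G) ≤ M → (∀ z : G, Central S z → z = t) → t ∈ center G

/-- Case I, the odd subgroups: with a second central involution `z`, an odd subgroup of `C(t)` normalized by `S`
and by `C(t) ∩ C(z)` lies in `O(C(t))`. -/
def CaseIOddSpec : Prop :=
  ∀ (G : Type u) [Group G] [Finite G] (M : Subgroup G) (S : Sylow 2 G), Setup M S →
    ∀ t : G, Central S t → ¬ centralizer ({t} : Set G) ≤ M → ∀ z : G, Central S z → z ≠ t →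
      ∀ D : Subgroup G, D ≤ centralizer ({t} : Set G) → Odd (Nat.card D) →
        Cfsg.centralizerPPrimeCore 2 t ≤ D → (S : Subgroup G) ≤ normalizer (D : Set G) →
        centralizer ({t} : Set G) ⊓ centralizer ({z} : Set G) ≤ normalizer (D : Set G) →
          D ≤ Cfsg.centralizerPPrimeCore 2 t

/-- Case I, the fusion: a four-group of `S` with conjugate involutions meets the centre. -/
def CaseIFourSpec : Prop :=
  ∀ (G : Type u) [Group G] [Finite G] (M : Subgroup G) (S : Sylow 2 G), Setup M S →
    ∀ t : G, Central S t → ¬ centralizer ({t} : Set G) ≤ M → ∀ z : G, Central S z → z ≠ t →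
      ∃ a b : G, Central S a ∧ b ∈ (S : Subgroup G) ∧ orderOf b = 2 ∧ Commute a b ∧ a ≠ b ∧ IsConj a b ∧
        IsConj a (a * b)

/-- Everything the part on the whole group uses. -/
structure LocalFacts : Prop where
  caseB : CaseBSpec.{u}
  caseIOdd : CaseIOddSpec.{u}
  caseIFour : CaseIFourSpec.{u}

end Cfsg.Lib.TwoCore
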